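import Groth.Agent.Lib.Helper5.QFDual.SepTrace
import Mathlib.RingTheory.Discriminant
import Mathlib.RingTheory.Etale.Basic
import Mathlib.RingTheory.Smooth.Fiber
import Mathlib.RingTheory.Finiteness.ModuleFinitePresentation

set_option autoImplicit false
universe u v
open TensorProduct

namespace H5QFDual

section
variable {A : Type u} {B : Type v} [CommRing A] [CommRing B] [Algebra A B]
  {ι : Type*} [Fintype ι] [DecidableEq ι] (b : Module.Basis ι A B)

theorem isUnit_discr_of_formallyUnramified [Algebra.FormallyUnramified A B] :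
    IsUnit (Algebra.discr A b) := by
  haveI : Module.Free A B := Module.Free.of_basis b
  haveI : Module.Finite A B := Module.Finite.of_basis b
  have hex : ∀ i, ∃ x : B, ∀ z, Algebra.trace A B (x * z) = b.coord i z := fun i =>
    exists_trace_mul_eq (b.coord i)
  choose x hx using hex
  let X : Matrix ι ι A := fun i k => b.repr (x i) k
  have hXG : X * Algebra.traceMatrix A b = 1 := by
    ext i j
    rw [Matrix.mul_apply]
    simp only [X, Algebra.traceMatrix_apply, Algebra.traceForm_apply]
    have h1 : ∑ k, b.repr (x i) k * Algebra.trace A B (b k * b j) =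
        Algebra.trace A B (x i * b j) := by
      conv_rhs => rw [← b.sum_repr (x i), Finset.sum_mul, map_sum]
      refine Finset.sum_congr rfl fun k _ => ?_
      rw [smul_mul_assoc, map_smul, smul_eq_mul]
    rw [h1, hx]
    simp [Matrix.one_apply, Finsupp.single_apply, eq_comm]
  rw [Algebra.discr_def]
  exact Matrix.isUnit_det_of_left_inverse hXG

theorem formallyUnramified_of_isUnit_discr (hu : IsUnit (Algebra.discr A b)) :
    Algebra.FormallyUnramified A B := by
  haveI : Module.Free A B := Module.Free.of_basis b
  haveI : Module.Finite A B := Module.Finite.of_basis b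
  set G := Algebra.traceMatrix A b with hG
  have hGdet : IsUnit G.det := hu
  have hGG : G * G⁻¹ = 1 := Matrix.mul_nonsing_inv G hGdet
  have hGsymm : ∀ i j, G i j = G j i := by
    intro i j
    simp only [hG, Algebra.traceMatrix_apply, Algebra.traceForm_apply, mul_comm]
  let c : ι → B := fun j => ∑ l, G⁻¹ l j • b l
  have hbc : ∀ i k, Algebra.trace A B (b i * c k) = if i = k then 1 else 0 := by
    intro i k
    simp only [c, Finset.mul_sum, map_sum, mul_smul_comm, map_smul, smul_eq_mul]
    have : ∑ l, G⁻¹ l k * Algebra.trace A B (b i * b l) = (G * G⁻¹) i k := by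
      rw [Matrix.mul_apply]
      refine Finset.sum_congr rfl fun l _ => ?_
      rw [mul_comm]
      rfl
    rw [this, hGG, Matrix.one_apply]
  have hrepr : ∀ (y : B) k, b.repr y k = Algebra.trace A B (y * c k) := by
    intro y k
    conv_rhs => rw [← b.sum_repr y, Finset.sum_mul, map_sum]
    simp only [smul_mul_assoc, map_smul, smul_eq_mul, hbc]
    simp
  have hnondeg : ∀ w : B, (∀ j, Algebra.trace A B (w * b j) = 0) → w = 0 := by
    intro w hw
    apply b.repr.injective
    ext k
    rw [hrepr]
    simp only [c, Finset.mul_sum, map_sum, mul_smul_comm, map_smul, hw, smul_zero,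
      Finset.sum_const_zero, map_zero, Finsupp.zero_apply]
  have hcb : ∀ i k, Algebra.trace A B (c i * b k) = if i = k then 1 else 0 := by
    intro i k
    rw [mul_comm, hbc]
    simp [eq_comm]
  have hdual : ∀ y : B, y = ∑ i, Algebra.trace A B (y * b i) • c i := by
    intro y
    rw [← sub_eq_zero]
    apply hnondeg
    intro j
    rw [sub_mul, map_sub, Finset.sum_mul, map_sum]
    simp only [smul_mul_assoc, map_smul, smul_eq_mul, hcb]
    simp
  let e : B ⊗[A] B := ∑ i, b i ⊗ₜ[A] c i
  rw [Algebra.FormallyUnramified.iff_exists_tensorProduct]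
  refine ⟨e, fun s => ?_, ?_⟩
  · rw [sub_mul, sub_eq_zero]
    simp only [e, Finset.mul_sum, Algebra.TensorProduct.tmul_mul_tmul, one_mul]
    -- LHS: ∑ i, b i ⊗ (s * c i) ; RHS: ∑ i, (s * b i) ⊗ c i
    have hL : ∀ i, b i ⊗ₜ[A] (s * c i) = ∑ k, Algebra.trace A B (s * c i * b k) • (b i ⊗ₜ[A] c k) := by
      intro i
      conv_lhs => rw [hdual (s * c i), TensorProduct.tmul_sum]
      simp only [TensorProduct.tmul_smul]
    have hR : ∀ k, (s * b k) ⊗ₜ[A] c k = ∑ i, Algebra.trace A B (s * b k * c i) • (b i ⊗ₜ[A] c k) := by
      intro k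
      conv_lhs => rw [← b.sum_repr (s * b k), TensorProduct.sum_tmul]
      simp only [hrepr, TensorProduct.smul_tmul']
    simp only [hL, hR]
    rw [Finset.sum_comm]
    refine Finset.sum_congr rfl fun k _ => Finset.sum_congr rfl fun i _ => ?_
    congr 2
    ring
  · simp only [e, map_sum, Algebra.TensorProduct.lmul'_apply_tmul]
    rw [← sub_eq_zero]
    apply hnondeg
    intro j
    rw [sub_mul, map_sub, Finset.sum_mul, map_sum, one_mul, sub_eq_zero]
    rw [Algebra.trace_eq_matrix_trace b, Matrix.trace]
    refine Finset.sum_congr rfl fun i _ => ?_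
    rw [Matrix.diag_apply, Algebra.leftMulMatrix_eq_repr_mul, hrepr]
    congr 1
    ring

theorem etale_iff_isUnit_discr : Algebra.Etale A B ↔ IsUnit (Algebra.discr A b) := by
  constructor
  · intro h
    exact isUnit_discr_of_formallyUnramified b
  · intro hu
    haveI : Module.Free A B := Module.Free.of_basis b
    haveI : Module.Finite A B := Module.Finite.of_basis b
    haveI := formallyUnramified_of_isUnit_discr b hu
    haveI : Module.FinitePresentation A B := Module.finitePresentation_of_projective A B
    exact Algebra.Etale.of_formallyUnramified_of_flat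

end

end H5QFDual
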