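import Mathlib.AlgebraicGeometry.Morphisms.Flat
import Mathlib.AlgebraicGeometry.Morphisms.OpenImmersion

set_option autoImplicit false
universe u
open AlgebraicGeometry CategoryTheory

namespace H5OIBridge

variable {R S : Type u} [CommRing R] [CommRing S] [Algebra R S]

theorem flat_of_isOpenImmersion
    (h : IsOpenImmersion (Spec.map (CommRingCat.ofHom (algebraMap R S)))) :
    Module.Flat R S := by
  haveI := h
  have h1 : Flat (Spec.map (CommRingCat.ofHom (algebraMap R S))) := inferInstance
  have h2 := Flat.SpecMap_iff.mp h1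
  exact (RingHom.flat_algebraMap_iff).mp h2

theorem comap_injective_of_isOpenImmersion
    (h : IsOpenImmersion (Spec.map (CommRingCat.ofHom (algebraMap R S))))
    (q₁ q₂ : Ideal S) (h₁ : q₁.IsPrime) (h₂ : q₂.IsPrime)
    (heq : q₁.comap (algebraMap R S) = q₂.comap (algebraMap R S)) : q₁ = q₂ := by
  haveI := h
  have hinj : Function.Injective (Spec.map (CommRingCat.ofHom (algebraMap R S))).base :=
    (Spec.map (CommRingCat.ofHom (algebraMap R S))).isOpenEmbedding.injective
  have := @hinj ⟨q₁, h₁⟩ ⟨q₂, h₂⟩ (by
    apply PrimeSpectrum.ext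
    exact heq)
  exact congrArg PrimeSpectrum.asIdeal this

end H5OIBridge
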