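import Mathlib.RingTheory.Unramified.Finite
import Mathlib.RingTheory.Trace.Defs
import Mathlib.RingTheory.Trace.Basic

set_option autoImplicit false
open TensorProduct

namespace H5QFDual

section
variable {K L : Type*} [CommRing K] [CommRing L] [Algebra K L]

/-- `a ⊗ b ↦ ψ a • b`. -/
noncomputable def evalLeft (ψ : L →ₗ[K] K) : L ⊗[K] L →ₗ[K] L :=
  (TensorProduct.lid K L).toLinearMap ∘ₗ LinearMap.rTensor L ψ

@[simp] theorem evalLeft_tmul (ψ : L →ₗ[K] K) (a b : L) : evalLeft ψ (a ⊗ₜ[K] b) = ψ a • b := by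
  simp [evalLeft]

/-- `a ⊗ b ↦ φ b • a`. -/
noncomputable def evalRight (φ : L →ₗ[K] K) : L ⊗[K] L →ₗ[K] L :=
  (TensorProduct.rid K L).toLinearMap ∘ₗ LinearMap.lTensor L φ

@[simp] theorem evalRight_tmul (φ : L →ₗ[K] K) (a b : L) : evalRight φ (a ⊗ₜ[K] b) = φ b • a := by
  simp [evalRight]

variable [Module.Free K L] [Module.Finite K L]

/-- `a ⊗ b ↦ Tr(z a) • b`. -/
noncomputable def trTensor (z : L) : L ⊗[K] L →ₗ[K] L :=
  evalLeft ((Algebra.trace K L) ∘ₗ (LinearMap.mulLeft K z))

@[simp] theorem trTensor_tmul (z a b : L) :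
    trTensor (K := K) z (a ⊗ₜ[K] b) = Algebra.trace K L (z * a) • b := by
  simp [trTensor]

variable [Algebra.FormallyUnramified K L]

theorem trTensor_elem (z : L) : trTensor z (Algebra.FormallyUnramified.elem K L) = z := by
  classical
  let β := Module.Free.chooseBasis K L
  let U : Module.Free.ChooseBasisIndex K L → (L ⊗[K] L →ₗ[K] L) := fun j =>
    evalLeft ((β.coord j) ∘ₗ (LinearMap.mulLeft K z))
  have hU : ∀ j a b, U j (a ⊗ₜ[K] b) = β.repr (z * a) j • b := by
    intro j a b
    simp [U]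
  let Φ₁ : L ⊗[K] L →ₗ[K] L := ∑ j, U j ∘ₗ LinearMap.mulLeft K (β j ⊗ₜ[K] (1 : L))
  let Φ₂ : L ⊗[K] L →ₗ[K] L := ∑ j, U j ∘ₗ LinearMap.mulLeft K ((1 : L) ⊗ₜ[K] β j)
  have h₁ : Φ₁ = trTensor z := by
    apply TensorProduct.ext'
    intro a b
    simp only [Φ₁, LinearMap.sum_apply, LinearMap.comp_apply, LinearMap.mulLeft_apply,
      Algebra.TensorProduct.tmul_mul_tmul, one_mul, hU, trTensor_tmul]
    rw [← Finset.sum_smul]
    congr 1
    rw [Algebra.trace_eq_matrix_trace β, Matrix.trace]
    refine Finset.sum_congr rfl fun j _ => ?_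
    rw [Matrix.diag_apply, Algebra.leftMulMatrix_eq_repr_mul, mul_assoc, mul_comm (β j) a]
  have h₂ : ∀ t, Φ₂ t = z * Algebra.TensorProduct.lmul' (S := L) K t := by
    intro t
    induction t using TensorProduct.induction_on with
    | zero => simp
    | add x y hx hy => rw [map_add, map_add, hx, hy, mul_add]
    | tmul a b =>
      simp only [Φ₂, LinearMap.sum_apply, LinearMap.comp_apply, LinearMap.mulLeft_apply,
        Algebra.TensorProduct.tmul_mul_tmul, one_mul, hU, Algebra.TensorProduct.lmul'_apply_tmul]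
      have : ∀ j, β.repr (z * a) j • (β j * b) = (β.repr (z * a) j • β j) * b := fun j =>
        (smul_mul_assoc _ _ _).symm
      simp only [this]
      rw [← Finset.sum_mul, β.sum_repr, mul_assoc]
  have h₃ : Φ₁ (Algebra.FormallyUnramified.elem K L) = Φ₂ (Algebra.FormallyUnramified.elem K L) := by
    simp only [Φ₁, Φ₂, LinearMap.sum_apply, LinearMap.comp_apply, LinearMap.mulLeft_apply]
    refine Finset.sum_congr rfl fun j _ => ?_
    rw [Algebra.FormallyUnramified.one_tmul_mul_elem]
  rw [← h₁, h₃, h₂, Algebra.FormallyUnramified.lmul_elem, mul_one]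

theorem eq_zero_of_trace_mul_eq_zero (z : L) (h : ∀ a, Algebra.trace K L (z * a) = 0) : z = 0 := by
  rw [← trTensor_elem (K := K) z]
  have h0 : trTensor (K := K) z = 0 := by
    apply TensorProduct.ext'
    intro a b
    simp [h]
  rw [h0]
  rfl

theorem exists_trace_mul_eq (φ : L →ₗ[K] K) : ∃ x : L, ∀ z, Algebra.trace K L (x * z) = φ z := by
  refine ⟨evalRight φ (Algebra.FormallyUnramified.elem K L), fun z => ?_⟩
  have key : ∀ t, Algebra.trace K L (evalRight φ t * z) = φ (trTensor z t) := by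
    intro t
    induction t using TensorProduct.induction_on with
    | zero => simp
    | add x y hx hy => rw [map_add, add_mul, map_add, hx, hy, map_add, map_add]
    | tmul a b =>
      rw [evalRight_tmul, trTensor_tmul, map_smul, smul_mul_assoc, map_smul, mul_comm a z,
        smul_eq_mul, smul_eq_mul, mul_comm]
  rw [key, trTensor_elem]

end

end H5QFDual
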