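import Groth.Prelude.Def_QFDual
import Groth.Agent.Lib.Helper5.QFDual.SepTrace
import Mathlib.RingTheory.Etale.Basic
import Mathlib.RingTheory.Localization.Module
import Mathlib.Algebra.Module.LocalizedModule.IsLocalization

set_option autoImplicit false
universe u
open QFDual TensorProduct

namespace H5QFDual

section
variable (A K B L : Type u) [CommRing A] [CommRing K] [CommRing B] [CommRing L] [Algebra A K]
  [Algebra A B] [Algebra B L] [Algebra K L] [Algebra A L] [IsScalarTower A K L]
  [IsScalarTower A B L]

/-- the functional attached to an element of the complementary module -/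
noncomputable def complFun (x : QFDual.complementary A K B L) (b : B) : A :=
  (x.2 b).choose

variable {A K B L}

theorem complFun_spec (x : QFDual.complementary A K B L) (b : B) :
    algebraMap A K (complFun A K B L x b) = Algebra.trace K L ((x : L) * algebraMap B L b) :=
  (x.2 b).choose_spec

variable (A K B L)

/-- extension of an `A`-linear functional on `B` to a `K`-linear functional on `L` -/
theorem exists_extend (h : QFDual.IsDedekindDefined A K B L) (φ : B →ₗ[A] A) :
    ∃ ψ : L →ₗ[K] K, ∀ b : B, ψ (algebraMap B L b) = algebraMap A K (φ b) := by
  haveI := h.isFractionRing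
  let f : B →ₗ[A] L := (IsScalarTower.toAlgHom A B L).toLinearMap
  haveI : IsLocalizedModule (nonZeroDivisors A) f :=
    isLocalizedModule_iff_isLocalization.mpr h.isLocalization
  refine ⟨(IsLocalizedModule.map (nonZeroDivisors A) f (Algebra.linearMap A K)
    φ).extendScalarsOfIsLocalization (nonZeroDivisors A) K, fun b => ?_⟩
  simp only [LinearMap.extendScalarsOfIsLocalization_apply']
  exact IsLocalizedModule.map_apply (nonZeroDivisors A) f (Algebra.linearMap A K) φ b

theorem exists_complementary_linearEquiv_omega (h : QFDual.IsDedekindDefined A K B L) :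
    ∃ e : QFDual.complementary A K B L ≃ₗ[B] Disc.Omega A B,
      ∀ (x : QFDual.complementary A K B L) (b : B),
        algebraMap A K ((e x).toLinearMap b) =
          Algebra.trace K L ((x : L) * algebraMap B L b) := by
  haveI := h.isFractionRing
  haveI := h.free
  haveI := h.finiteKL
  haveI := h.etale
  have hinj : Function.Injective (algebraMap A K) := IsFractionRing.injective A K
  let θ : QFDual.complementary A K B L → (B →ₗ[A] A) := fun x =>
    { toFun := complFun A K B L x
      map_add' := fun b c => hinj (by
        rw [map_add, complFun_spec, complFun_spec, complFun_spec, map_add, mul_add, map_add])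
      map_smul' := fun a b => hinj (by
        have e1 : algebraMap B L (a • b) = a • algebraMap B L b := by
          rw [Algebra.smul_def, (algebraMap B L).map_mul, ← IsScalarTower.algebraMap_apply,
            ← Algebra.smul_def]
        rw [RingHom.id_apply, smul_eq_mul, (algebraMap A K).map_mul, complFun_spec, complFun_spec,
          e1, mul_smul_comm, ← algebraMap_smul K a, map_smul, smul_eq_mul]) }
  have hθ : ∀ x b, algebraMap A K (θ x b) = Algebra.trace K L ((x : L) * algebraMap B L b) :=
    fun x b => complFun_spec x b
  let Θ : QFDual.complementary A K B L →ₗ[B] Disc.Omega A B :=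
    { toFun := fun x => ⟨θ x⟩
      map_add' := fun x y => by
        apply Disc.Omega.ext
        ext b
        apply hinj
        simp only [Disc.Omega.add_toLinearMap, LinearMap.add_apply, map_add, hθ]
        rw [Submodule.coe_add, add_mul, map_add]
      map_smul' := fun c x => by
        apply Disc.Omega.ext
        ext b
        apply hinj
        simp only [RingHom.id_apply, Disc.Omega.smul_toLinearMap_apply, hθ]
        have e2 : ((c • x : QFDual.complementary A K B L) : L) * algebraMap B L b =
            (x : L) * algebraMap B L (c * b) := by
          rw [Submodule.coe_smul, Algebra.smul_def, (algebraMap B L).map_mul]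
          ring
        rw [e2] }
  have hΘ : ∀ x b, algebraMap A K ((Θ x).toLinearMap b) =
      Algebra.trace K L ((x : L) * algebraMap B L b) := fun x b => hθ x b
  -- trace against all of `L` vanishes if it vanishes against `B`
  have hvan : ∀ x : L, (∀ b : B, Algebra.trace K L (x * algebraMap B L b) = 0) →
      ∀ z : L, Algebra.trace K L (x * z) = 0 := by
    intro x hx z
    haveI := h.isLocalization
    obtain ⟨⟨b, s⟩, hbs⟩ := IsLocalization.surj (Algebra.algebraMapSubmonoid B (nonZeroDivisors A)) z
    obtain ⟨s0, hs0, hs0'⟩ := s.2
    simp only at hbs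
    have hunit : IsUnit (algebraMap A K s0) := IsLocalization.map_units K ⟨s0, hs0⟩
    have h1 : Algebra.trace K L (x * z) * algebraMap A K s0 = 0 := by
      rw [mul_comm, ← smul_eq_mul, ← map_smul, Algebra.smul_def,
        ← IsScalarTower.algebraMap_apply A K L, IsScalarTower.algebraMap_apply A B L, hs0',
        mul_left_comm, mul_comm _ z, hbs, hx]
    exact (hunit.mul_left_eq_zero).mp h1
  have hbij : Function.Bijective Θ := by
    constructor
    · rw [← LinearMap.ker_eq_bot, LinearMap.ker_eq_bot']
      intro x hx
      have h0 : ∀ b : B, Algebra.trace K L ((x : L) * algebraMap B L b) = 0 := by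
        intro b
        rw [← hΘ, hx]
        simp
      have := eq_zero_of_trace_mul_eq_zero (K := K) (x : L) (hvan _ h0)
      exact Subtype.ext this
    · intro φ
      obtain ⟨ψ, hψ⟩ := exists_extend A K B L h φ.toLinearMap
      obtain ⟨x, hx⟩ := exists_trace_mul_eq ψ
      have hxmem : x ∈ QFDual.complementary A K B L := fun b => ⟨φ.toLinearMap b, by rw [hx, hψ]⟩
      refine ⟨⟨x, hxmem⟩, ?_⟩
      apply Disc.Omega.ext
      ext b
      apply hinj
      rw [hΘ]
      simp only
      rw [hx, hψ]
  exact ⟨LinearEquiv.ofBijective Θ hbij, fun x b => hΘ x b⟩

end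

end H5QFDual
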