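import Groth.Prelude.Def_QFDual
import Mathlib.RingTheory.Flat.Basic
import Mathlib.RingTheory.Flat.EquationalCriterion
import Mathlib.RingTheory.Finiteness.Projective
import Mathlib.LinearAlgebra.Trace
import Mathlib.RingTheory.Localization.Module
import Mathlib.Algebra.Module.LocalizedModule.IsLocalization
import Mathlib.RingTheory.Trace.Defs


set_option autoImplicit false
universe u
open QFDual TensorProduct

namespace H5QFDual

/-- Trace of an endomorphism of a finite free module via a "dual basis" (projective coordinates). -/
theorem trace_eq_sum_of_dualBasis {R M : Type*} [CommRing R] [AddCommGroup M] [Module R M]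
    [Module.Free R M] [Module.Finite R M] {n : ℕ} (φ : Fin n → Module.Dual R M) (m : Fin n → M)
    (h : ∀ x, x = ∑ j, φ j x • m j) (f : M →ₗ[R] M) :
    LinearMap.trace R M f = ∑ j, φ j (f (m j)) := by
  have hf : f = dualTensorHom R M M (∑ j, φ j ⊗ₜ[R] f (m j)) := by
    ext x
    rw [map_sum, LinearMap.sum_apply]
    simp only [dualTensorHom_apply]
    conv_lhs => rw [h x]
    rw [map_sum]
    simp
  conv_lhs => rw [hf]
  rw [LinearMap.trace_eq_contract_apply, map_sum]
  simp

theorem one_mem_complementary_of_flat (A K B L : Type u) [CommRing A] [CommRing K] [CommRing B]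
    [CommRing L] [Algebra A K] [Algebra A B] [Algebra B L] [Algebra K L] [Algebra A L]
    [IsScalarTower A K L] [IsScalarTower A B L] (h : QFDual.IsDedekindDefined A K B L)
    [Module.Flat A B] : (1 : L) ∈ QFDual.complementary A K B L := by
  intro b
  haveI := h.isNoetherianRing
  haveI := h.finite
  haveI := h.free
  haveI := h.finiteKL
  haveI := h.isFractionRing
  haveI := h.isLocalization
  haveI : Module.FinitePresentation A B := Module.finitePresentation_of_finite A B
  haveI : Module.Projective A B := Module.Flat.projective_of_finitePresentation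
  obtain ⟨n, p, i, hp, hi, hpi⟩ := Module.Finite.exists_comp_eq_id_of_projective A B
  let f : B →ₗ[A] L := (IsScalarTower.toAlgHom A B L).toLinearMap
  have hfapp : ∀ x, f x = algebraMap B L x := fun x => rfl
  haveI : IsLocalizedModule (nonZeroDivisors A) f :=
    isLocalizedModule_iff_isLocalization.mpr h.isLocalization
  let φ : Fin n → (B →ₗ[A] A) := fun j => (LinearMap.proj j) ∘ₗ i
  let β : Fin n → B := fun j => p (Pi.single j 1)
  have hdual : ∀ x : B, x = ∑ j, φ j x • β j := by
    intro x
    have h1 : p (i x) = x := by
      have := LinearMap.congr_fun hpi x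
      simpa using this
    conv_lhs => rw [← h1]
    have h2 : i x = ∑ j, (i x) j • (Pi.single j (1 : A) : Fin n → A) := by
      ext k
      simp [Finset.sum_apply, Pi.single_apply]
    conv_lhs => rw [h2]
    rw [map_sum]
    simp [φ, β]
  let ψ : Fin n → (L →ₗ[K] K) := fun j =>
    (IsLocalizedModule.map (nonZeroDivisors A) f (Algebra.linearMap A K) (φ j)).extendScalarsOfIsLocalization
      (nonZeroDivisors A) K
  have hψ : ∀ j (x : B), ψ j (f x) = algebraMap A K (φ j x) := by
    intro j x
    simp only [ψ, LinearMap.extendScalarsOfIsLocalization_apply']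
    rw [IsLocalizedModule.map_apply]
    rfl
  have hdualL : ∀ x : L, x = ∑ j, ψ j x • f (β j) := by
    intro x
    obtain ⟨⟨y, s⟩, hy⟩ := IsLocalizedModule.surj (nonZeroDivisors A) f x
    apply IsLocalizedModule.smul_injective f s
    simp only at hy ⊢
    rw [hy, Finset.smul_sum]
    conv_lhs => rw [hdual y]
    rw [map_sum]
    refine Finset.sum_congr rfl fun j _ => ?_
    rw [map_smul, ← smul_assoc, show s • ψ j x = ψ j (s • x) from
      (LinearMap.map_smul_of_tower (ψ j) s x).symm, hy, hψ, algebraMap_smul]
  have htr := trace_eq_sum_of_dualBasis ψ (fun j => f (β j)) hdualL (Algebra.lmul K L (1 * algebraMap B L b))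
  rw [Algebra.trace_apply, htr]
  refine ⟨∑ j, φ j (b * β j), ?_⟩
  rw [map_sum]
  refine Finset.sum_congr rfl fun j _ => ?_
  rw [show (Algebra.lmul K L (1 * algebraMap B L b)) (f (β j)) = algebraMap B L b * f (β j) by
    simp, hfapp, ← map_mul, ← hfapp, hψ]

end H5QFDual
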