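import Groth.Prelude.Def_QFDual
import Groth.Agent.Lib.Helper5.QFDual.Compl
import Groth.Agent.Lib.Helper5.QFDual.TraceFlat
import Mathlib.RingTheory.Localization.NormTrace

set_option autoImplicit false
universe u
open QFDual TensorProduct

namespace H5QFDual

section
variable (A K B L : Type u) [CommRing A] [CommRing K] [CommRing B] [CommRing L] [Algebra A K]
  [Algebra A B] [Algebra B L] [Algebra K L] [Algebra A L] [IsScalarTower A K L]
  [IsScalarTower A B L]

theorem eq_zero_of_trace_mul_algebraMap_eq_zero (h : QFDual.IsDedekindDefined A K B L) (x : L)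
    (hx : ∀ b : B, Algebra.trace K L (x * algebraMap B L b) = 0) : x = 0 := by
  haveI := h.isFractionRing
  haveI := h.free
  haveI := h.finiteKL
  haveI := h.etale
  haveI := h.isLocalization
  apply eq_zero_of_trace_mul_eq_zero (K := K)
  intro z
  obtain ⟨⟨b, s⟩, hbs⟩ := IsLocalization.surj (Algebra.algebraMapSubmonoid B (nonZeroDivisors A)) z
  obtain ⟨s0, hs0, hs0'⟩ := s.2
  simp only at hbs
  have hunit : IsUnit (algebraMap A K s0) := IsLocalization.map_units K ⟨s0, hs0⟩
  have h1 : Algebra.trace K L (x * z) * algebraMap A K s0 = 0 := by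
    rw [mul_comm, ← smul_eq_mul, ← map_smul, Algebra.smul_def,
      ← IsScalarTower.algebraMap_apply A K L, IsScalarTower.algebraMap_apply A B L, hs0',
      mul_left_comm, mul_comm _ z, hbs, hx]
  exact (hunit.mul_left_eq_zero).mp h1

theorem dedekindDifferent_eq_map_different_trace (h : QFDual.IsDedekindDefined A K B L)
    [Module.Finite A B] [Module.Free A B] :
    QFDual.dedekindDifferent A K B L =
      Submodule.map (Algebra.linearMap B L) (QFDual.different B (Disc.Omega.trace A B)) := by
  haveI := h.isFractionRing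
  haveI := h.isLocalization
  have hinj : Function.Injective (algebraMap A K) := IsFractionRing.injective A K
  obtain ⟨e, he⟩ := exists_complementary_linearEquiv_omega A K B L h
  have htrloc : ∀ c : B, Algebra.trace K L (algebraMap B L c) =
      algebraMap A K (Algebra.trace A B c) := fun c =>
    Algebra.trace_localization A (nonZeroDivisors A) c
  have hone : (1 : L) ∈ QFDual.complementary A K B L := one_mem_complementary_of_flat A K B L h
  apply le_antisymm
  · intro y hy
    obtain ⟨b, hb⟩ := hy 1 hone
    rw [mul_one] at hb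
    refine ⟨b, ?_, hb⟩
    rw [SetLike.mem_coe, QFDual.mem_different_iff]
    intro φ
    obtain ⟨c, hc⟩ := hy (e.symm φ) (e.symm φ).2
    refine ⟨c, ?_⟩
    apply Disc.Omega.ext
    ext x
    apply hinj
    rw [Disc.Omega.smul_toLinearMap_apply, Disc.Omega.smul_toLinearMap_apply]
    have h1 := he (e.symm φ) (b * x)
    rw [LinearEquiv.apply_symm_apply] at h1
    rw [h1, (algebraMap B L).map_mul, ← mul_assoc, mul_comm _ (algebraMap B L b), hb, ← hc,
      ← (algebraMap B L).map_mul, htrloc]
    rfl
  · rintro y ⟨b, hb, rfl⟩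
    rw [SetLike.mem_coe, QFDual.mem_different_iff] at hb
    intro w hw
    obtain ⟨c, hc⟩ := hb (e ⟨w, hw⟩)
    refine ⟨c, ?_⟩
    rw [← sub_eq_zero]
    apply eq_zero_of_trace_mul_algebraMap_eq_zero A K B L h
    intro x
    rw [sub_mul, map_sub, sub_eq_zero, ← (algebraMap B L).map_mul, htrloc]
    have h2 := congrArg (fun ψ : Disc.Omega A B => ψ.toLinearMap x) hc
    simp only [Disc.Omega.smul_toLinearMap_apply] at h2
    have h3 := he ⟨w, hw⟩ (b * x)
    simp only at h3
    rw [show Algebra.linearMap B L b * w * algebraMap B L x = w * algebraMap B L (b * x) by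
      rw [(algebraMap B L).map_mul, Algebra.linearMap_apply]; ring]
    rw [← h3, ← h2]
    rfl

end

end H5QFDual
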