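import Groth.Prelude.Def_QFDual
import Mathlib.RingTheory.Flat.Equalizer
import Mathlib.RingTheory.IsTensorProduct
import Mathlib.RingTheory.TensorProduct.IsBaseChangePi
import Mathlib.RingTheory.TensorProduct.IsBaseChangeFree
import Mathlib.RingTheory.Trace.Defs

set_option autoImplicit false
universe u
open TensorProduct

namespace H5DiffBC

section Ker
variable {A A' M N M' N' : Type u} [CommRing A] [CommRing A'] [Algebra A A']
  [AddCommGroup M] [AddCommGroup N] [AddCommGroup M'] [AddCommGroup N']
  [Module A M] [Module A N] [Module A M'] [Module A N'] [Module A' M'] [Module A' N']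
  [IsScalarTower A A' M'] [IsScalarTower A A' N']

/-- flat base change of the kernel of a linear map -/
theorem mem_span_of_mem_ker [Module.Flat A A'] (gM : M →ₗ[A] M') (hM : IsBaseChange A' gM)
    (gN : N →ₗ[A] N') (hN : IsBaseChange A' gN) (φ : M →ₗ[A] N) (φ' : M' →ₗ[A'] N')
    (hcomm : ∀ m, φ' (gM m) = gN (φ m)) (m' : M') (hm' : φ' m' = 0) :
    m' ∈ Submodule.span A' (gM '' (LinearMap.ker φ : Set M)) := by
  have hflat := Module.Flat.ker_lTensor_eq (R := A) A' A' φ
  let t : A' ⊗[A] M := hM.equiv.symm m'
  have ht : hM.equiv t = m' := LinearEquiv.apply_symm_apply _ _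
  have hcomp : ∀ (u : A' ⊗[A] M),
      hN.equiv (AlgebraTensorModule.lTensor A' A' φ u) = φ' (hM.equiv u) := by
    intro u
    induction u using TensorProduct.induction_on with
    | zero => simp
    | add a b ha hb =>
      simp only [map_add] at ha hb ⊢
      rw [ha, hb]
    | tmul a s =>
      simp only [AlgebraTensorModule.lTensor_tmul, IsBaseChange.equiv_tmul, map_smul, hcomm]
  have ht0 : AlgebraTensorModule.lTensor A' A' φ t = 0 := by
    apply hN.equiv.injective
    rw [hcomp, ht, hm', map_zero]
  have ht1 : t ∈ LinearMap.ker (AlgebraTensorModule.lTensor A' A' φ) := ht0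
  rw [hflat] at ht1
  obtain ⟨u, hu⟩ := ht1
  rw [← ht, ← hu]
  clear hu
  induction u using TensorProduct.induction_on with
  | zero => simp
  | add a b ha hb =>
    rw [map_add, map_add]
    exact Submodule.add_mem _ ha hb
  | tmul a k =>
    simp only [AlgebraTensorModule.lTensor_tmul, Submodule.subtype_apply,
      IsBaseChange.equiv_tmul]
    exact Submodule.smul_mem _ _ (Submodule.subset_span ⟨k.1, k.2, rfl⟩)

end Ker

section Mem
variable {A B : Type u} [CommRing A] [CommRing B] [Algebra A B] [Module.Finite A B]
  [Module.Free A B] {ι : Type u} [Fintype ι] (e : Module.Basis ι A B)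

theorem mem_different_iff (b : B) :
    b ∈ QFDual.different B (Disc.Omega.trace A B) ↔
      ∃ c : ι → B, ∀ i k, Algebra.trace A B (c i * e k) = e.repr (b * e k) i := by
  rw [QFDual.mem_different_iff]
  constructor
  · intro h
    choose c hc using fun i => h ⟨e.coord i⟩
    refine ⟨c, fun i k => ?_⟩
    have := congrArg (fun φ : Disc.Omega A B => φ.toLinearMap (e k)) (hc i)
    simpa [Disc.Omega.trace] using this
  · rintro ⟨c, hc⟩ φ
    refine ⟨∑ i, φ.toLinearMap (e i) • c i, ?_⟩
    apply Disc.Omega.toLinearMap_injective
    apply e.ext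
    intro k
    rw [Disc.Omega.smul_toLinearMap_apply, Disc.Omega.smul_toLinearMap_apply]
    change Algebra.trace A B _ = _
    rw [Finset.sum_mul, map_sum]
    conv_rhs => rw [← e.sum_repr (b * e k), map_sum]
    refine Finset.sum_congr rfl fun i _ => ?_
    rw [smul_mul_assoc, map_smul, map_smul, hc, smul_eq_mul, smul_eq_mul, mul_comm]

end Mem

section Main
variable (A B A' B' : Type u) [CommRing A] [CommRing B] [CommRing A'] [CommRing B']
  [Algebra A B] [Module.Finite A B] [Module.Free A B] [Algebra A A'] [Algebra B B']
  [Algebra A' B'] [Algebra A B'] [IsScalarTower A A' B'] [IsScalarTower A B B']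

variable {A B A' B'} in
theorem trace_map (hB : Algebra.IsPushout A A' B B') [Module.Finite A' B'] [Module.Free A' B']
    (b : B) : Algebra.trace A' B' (algebraMap B B' b) = algebraMap A A' (Algebra.trace A B b) := by
  classical
  let e := Module.Free.chooseBasis A B
  have hbc : IsBaseChange A' (IsScalarTower.toAlgHom A B B').toLinearMap := hB.out
  let e' := hbc.basis e
  rw [Algebra.trace_eq_matrix_trace e, Algebra.trace_eq_matrix_trace e', Matrix.trace,
    Matrix.trace, map_sum]
  refine Finset.sum_congr rfl fun i _ => ?_
  rw [Matrix.diag_apply, Matrix.diag_apply, Algebra.leftMulMatrix_eq_repr_mul,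
    Algebra.leftMulMatrix_eq_repr_mul]
  have h1 : e' i = algebraMap B B' (e i) := hbc.basis_apply e i
  rw [h1, ← map_mul]
  exact hbc.basis_repr_comp_apply e (b * e i) i

theorem map_different_eq (hB : Algebra.IsPushout A A' B B') [Module.Finite A' B']
    [Module.Free A' B'] [Module.Flat A A'] :
    Ideal.map (algebraMap B B') (QFDual.different B (Disc.Omega.trace A B)) =
      QFDual.different B' (Disc.Omega.trace A' B') := by
  classical
  let ι := Module.Free.ChooseBasisIndex A B
  let e : Module.Basis ι A B := Module.Free.chooseBasis A B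
  let g := IsScalarTower.toAlgHom A B B'
  have hbc : IsBaseChange A' g.toLinearMap := hB.out
  let e' : Module.Basis ι A' B' := hbc.basis e
  have he' : ∀ i, e' i = algebraMap B B' (e i) := fun i => hbc.basis_apply e i
  have hrepr : ∀ (v : B) i, e'.repr (algebraMap B B' v) i = algebraMap A A' (e.repr v i) :=
    fun v i => hbc.basis_repr_comp_apply e v i
  apply le_antisymm
  · rw [Ideal.map_le_iff_le_comap]
    intro b hb
    rw [Ideal.mem_comap, mem_different_iff e']
    obtain ⟨c, hc⟩ := (mem_different_iff e b).mp hb
    refine ⟨fun i => algebraMap B B' (c i), fun i k => ?_⟩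
    rw [he', ← map_mul, ← map_mul, trace_map hB, hrepr, hc]
  · intro b' hb'
    obtain ⟨c', hc'⟩ := (mem_different_iff e' b').mp hb'
    -- the linear maps
    let Φ : (B × (ι → B)) →ₗ[A] (ι → ι → A) :=
      { toFun := fun p i k => e.repr (p.1 * e k) i - Algebra.trace A B (p.2 i * e k)
        map_add' := by
          intro p q; ext i k
          simp only [Prod.fst_add, Prod.snd_add, Pi.add_apply, add_mul, map_add,
            Finsupp.coe_add]
          ring
        map_smul' := by
          intro a p; ext i k
          simp only [Prod.smul_fst, Prod.smul_snd, Pi.smul_apply, smul_mul_assoc, map_smul,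
            Finsupp.coe_smul, RingHom.id_apply, smul_eq_mul]
          ring }
    let Φ' : (B' × (ι → B')) →ₗ[A'] (ι → ι → A') :=
      { toFun := fun p i k => e'.repr (p.1 * e' k) i - Algebra.trace A' B' (p.2 i * e' k)
        map_add' := by
          intro p q; ext i k
          simp only [Prod.fst_add, Prod.snd_add, Pi.add_apply, add_mul, map_add,
            Finsupp.coe_add]
          ring
        map_smul' := by
          intro a p; ext i k
          simp only [Prod.smul_fst, Prod.smul_snd, Pi.smul_apply, smul_mul_assoc, map_smul,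
            Finsupp.coe_smul, RingHom.id_apply, smul_eq_mul]
          ring }
    let gM : (B × (ι → B)) →ₗ[A] (B' × (ι → B')) :=
      g.toLinearMap.prodMap (g.toLinearMap.compLeft ι)
    have hgM : IsBaseChange A' gM := IsBaseChange.prodMap _ _ hbc (IsBaseChange.finitePow ι hbc)
    let gN : (ι → ι → A) →ₗ[A] (ι → ι → A') :=
      ((Algebra.linearMap A A').compLeft ι).compLeft ι
    have hgN : IsBaseChange A' gN :=
      IsBaseChange.finitePow ι (IsBaseChange.finitePow ι (IsBaseChange.linearMap A A'))
    have hcomm : ∀ m, Φ' (gM m) = gN (Φ m) := by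
      intro m
      ext i k
      change e'.repr (algebraMap B B' m.1 * e' k) i -
        Algebra.trace A' B' (algebraMap B B' (m.2 i) * e' k) =
        algebraMap A A' (e.repr (m.1 * e k) i - Algebra.trace A B (m.2 i * e k))
      rw [he', ← map_mul, ← map_mul, trace_map hB, hrepr, map_sub]
    have hker : Φ' (b', c') = 0 := by
      ext i k
      change e'.repr (b' * e' k) i - Algebra.trace A' B' (c' i * e' k) = 0
      rw [hc', sub_self]
    have hmem := mem_span_of_mem_ker gM hgM gN hgN Φ Φ' hcomm (b', c') hker
    have key : ∀ p ∈ Submodule.span A' (gM '' (LinearMap.ker Φ : Set (B × (ι → B)))),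
        p.1 ∈ Ideal.map (algebraMap B B') (QFDual.different B (Disc.Omega.trace A B)) := by
      intro p hp
      refine Submodule.span_induction ?_ ?_ ?_ ?_ hp
      · rintro _ ⟨q, hq, rfl⟩
        apply Ideal.mem_map_of_mem
        rw [mem_different_iff e]
        refine ⟨q.2, fun i k => ?_⟩
        have := congrFun (congrFun (LinearMap.mem_ker.mp hq) i) k
        change e.repr (q.1 * e k) i - Algebra.trace A B (q.2 i * e k) = 0 at this
        rw [sub_eq_zero] at this
        exact this.symm
      · simp
      · intro x y _ _ hx hy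
        exact Ideal.add_mem _ hx hy
      · intro a x _ hx
        rw [Prod.smul_fst, Algebra.smul_def]
        exact Ideal.mul_mem_left _ _ hx
    exact key _ hmem

end Main

end H5DiffBC
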