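import Groth.Prelude.Def_QFDual
import Groth.Agent.Lib.Helper5.QFDual.DiffBC
import Groth.Agent.Lib.Helper5.Disc.InvDiff

set_option autoImplicit false
universe u
open TensorProduct

namespace H5DiffBC

section Coord
variable {A B : Type u} [CommRing A] [CommRing B] [Algebra A B] {ι : Type u} [Fintype ι]
  (e : Module.Basis ι A B)

/-- the dual basis element as an element of `Omega`. -/
noncomputable def coordΩ (i : ι) : Disc.Omega A B := ⟨e.coord i⟩

/-- `toLinearMap` as an additive hom -/
def toLMHom : Disc.Omega A B →+ (B →ₗ[A] A) where
  toFun := Disc.Omega.toLinearMap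
  map_zero' := rfl
  map_add' _ _ := rfl

theorem omega_eq_sum (φ : Disc.Omega A B) :
    φ = ∑ i, algebraMap A B (φ.toLinearMap (e i)) • coordΩ e i := by
  classical
  apply Disc.Omega.toLinearMap_injective
  apply e.ext
  intro k
  change _ = toLMHom (∑ i, algebraMap A B (φ.toLinearMap (e i)) • coordΩ e i) (e k)
  rw [map_sum, LinearMap.sum_apply]
  have : ∀ i, toLMHom (algebraMap A B (φ.toLinearMap (e i)) • coordΩ e i) (e k) =
      if i = k then φ.toLinearMap (e i) else 0 := by
    intro i
    change (algebraMap A B (φ.toLinearMap (e i)) • coordΩ e i).toLinearMap (e k) = _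
    rw [Disc.Omega.smul_toLinearMap_apply, ← Algebra.smul_def]
    change e.coord i _ = _
    rw [map_smul, Module.Basis.coord_apply, Module.Basis.repr_self, Finsupp.single_apply]
    by_cases h : i = k
    · subst h
      simp
    · rw [if_neg h, if_neg (fun h' => h h'.symm), smul_zero]
  simp only [this]
  simp

theorem dual_apply_eq_sum (Φ : Disc.Omega A B →ₗ[B] B) (φ : Disc.Omega A B) :
    Φ φ = ∑ i, φ.toLinearMap (e i) • Φ (coordΩ e i) := by
  conv_lhs => rw [omega_eq_sum e φ]
  rw [map_sum]
  refine Finset.sum_congr rfl fun i _ => ?_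
  rw [map_smul, smul_eq_mul, Algebra.smul_def]

theorem sum_smul_mul (β : ι → B) (hβ : ∀ b i, ∑ m, e.repr (b * e m) i • β m = b * β i)
    (φ : B →ₗ[A] A) (c : B) :
    ∑ m, φ (c * e m) • β m = c * ∑ m, φ (e m) • β m := by
  have hφ : ∀ x, φ x = ∑ i, e.repr x i * φ (e i) := by
    intro x
    conv_lhs => rw [← e.sum_repr x, map_sum]
    simp only [map_smul, smul_eq_mul]
  calc ∑ m, φ (c * e m) • β m = ∑ m, ∑ i, φ (e i) • (e.repr (c * e m) i • β m) := by
        refine Finset.sum_congr rfl fun m _ => ?_
        rw [hφ, Finset.sum_smul]
        refine Finset.sum_congr rfl fun i _ => ?_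
        rw [mul_comm, mul_smul]
    _ = ∑ i, φ (e i) • ∑ m, e.repr (c * e m) i • β m := by
        rw [Finset.sum_comm]
        simp only [Finset.smul_sum]
    _ = c * ∑ m, φ (e m) • β m := by
        simp only [hβ, Finset.mul_sum, mul_smul_comm]

end Coord

section Main
variable (A B A' B' : Type u) [CommRing A] [CommRing B] [CommRing A'] [CommRing B']
  [Algebra A B] [Module.Finite A B] [Module.Free A B] [Algebra A A'] [Algebra B B']
  [Algebra A' B'] [Algebra A B'] [IsScalarTower A A' B'] [IsScalarTower A B B']

theorem map_different_le (hB : Algebra.IsPushout A A' B B') [Module.Finite A' B']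
    [Module.Free A' B'] :
    Ideal.map (algebraMap B B') (QFDual.different B (Disc.Omega.trace A B)) ≤
      QFDual.different B' (Disc.Omega.trace A' B') := by
  classical
  let ι := Module.Free.ChooseBasisIndex A B
  let e : Module.Basis ι A B := Module.Free.chooseBasis A B
  let g := IsScalarTower.toAlgHom A B B'
  have hbc : IsBaseChange A' g.toLinearMap := hB.out
  let e' : Module.Basis ι A' B' := hbc.basis e
  have he' : ∀ i, e' i = algebraMap B B' (e i) := fun i => hbc.basis_apply e i
  have hrepr : ∀ (v : B) i, e'.repr (algebraMap B B' v) i = algebraMap A A' (e.repr v i) :=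
    fun v i => hbc.basis_repr_comp_apply e v i
  rw [Ideal.map_le_iff_le_comap]
  intro b hb
  rw [Ideal.mem_comap, mem_different_iff e']
  obtain ⟨c, hc⟩ := (mem_different_iff e b).mp hb
  refine ⟨fun i => algebraMap B B' (c i), fun i k => ?_⟩
  rw [he', ← map_mul, ← map_mul, trace_map hB, hrepr, hc]

theorem map_different_eq_of_invertible (hB : Algebra.IsPushout A A' B B') [Module.Finite A' B']
    [Module.Free A' B'] [Module.Invertible B (Disc.Omega A B)] :
    Ideal.map (algebraMap B B') (QFDual.different B (Disc.Omega.trace A B)) =
      QFDual.different B' (Disc.Omega.trace A' B') := by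
  classical
  refine le_antisymm (map_different_le A B A' B' hB) ?_
  let ι := Module.Free.ChooseBasisIndex A B
  let e : Module.Basis ι A B := Module.Free.chooseBasis A B
  let g := IsScalarTower.toAlgHom A B B'
  have hbc : IsBaseChange A' g.toLinearMap := hB.out
  let e' : Module.Basis ι A' B' := hbc.basis e
  have he' : ∀ i, e' i = algebraMap B B' (e i) := fun i => hbc.basis_apply e i
  have hrepr : ∀ (v : B) i, e'.repr (algebraMap B B' v) i = algebraMap A A' (e.repr v i) :=
    fun v i => hbc.basis_repr_comp_apply e v i
  have hsmul : ∀ (a : A) (x : B),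
      algebraMap B B' (a • x) = algebraMap A A' a • algebraMap B B' x := by
    intro a x
    rw [algebraMap_smul A' a (algebraMap B B' x)]
    exact g.toLinearMap.map_smul a x
  intro b' hb'
  obtain ⟨c', hc'⟩ := (mem_different_iff e' b').mp hb'
  obtain ⟨v, hv⟩ := H5Disc.exists_contract_eq_one (R := B) (M := Disc.Omega A B)
  have key : ∀ t : Module.Dual B (Disc.Omega A B) ⊗[B] Disc.Omega A B,
      algebraMap B B' (contractLeft B (Disc.Omega A B) t) * b' ∈
        Ideal.map (algebraMap B B') (QFDual.different B (Disc.Omega.trace A B)) := by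
    intro t
    induction t using TensorProduct.induction_on with
    | zero => simp
    | add x y hx hy =>
      rw [map_add, map_add, add_mul]
      exact Ideal.add_mem _ hx hy
    | tmul Φ z =>
      rw [contractLeft_apply]
      set β : ι → B := fun i => Φ (coordΩ e i) with hβdef
      have hβ : ∀ b i, ∑ m, e.repr (b * e m) i • β m = b * β i := by
        intro b i
        have := dual_apply_eq_sum e Φ (b • coordΩ e i)
        rw [map_smul, smul_eq_mul] at this
        rw [this]
        rfl
      set β' : ι → B' := fun i => algebraMap B B' (β i) with hβ'def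
      have hβ' : ∀ b' i, ∑ m, e'.repr (b' * e' m) i • β' m = b' * β' i := by
        intro b' i
        refine hbc.inductionOn b' (fun b' => ∑ m, e'.repr (b' * e' m) i • β' m = b' * β' i)
          ?_ ?_ ?_ ?_
        · simp
        · intro b
          change ∑ m, e'.repr (algebraMap B B' b * e' m) i • β' m = algebraMap B B' b * β' i
          simp only [he', ← map_mul, hrepr, hβ'def]
          rw [← hβ b i, map_sum]
          refine Finset.sum_congr rfl fun m _ => ?_
          rw [hsmul]
        · intro a' y hy
          simp only [smul_mul_assoc, map_smul, Finsupp.coe_smul, Pi.smul_apply, smul_eq_mul,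
            mul_smul, ← Finset.smul_sum, hy]
        · intro y z hy hz
          simp only [add_mul, map_add, Finsupp.coe_add, Pi.add_apply, add_smul,
            Finset.sum_add_distrib, hy, hz]
      have h1 : Φ z = ∑ i, z.toLinearMap (e i) • β i := dual_apply_eq_sum e Φ z
      have h2 : ∀ i, b' * β' i ∈
          Ideal.map (algebraMap B B') (QFDual.different B (Disc.Omega.trace A B)) := by
        intro i
        rw [← hβ' b' i]
        simp only [← hc']
        rw [sum_smul_mul e' β' hβ' (Algebra.trace A' B') (c' i)]
        apply Ideal.mul_mem_left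
        have h3 : ∑ m, Algebra.trace A' B' (e' m) • β' m =
            algebraMap B B' (Φ (Disc.Omega.trace A B)) := by
          rw [dual_apply_eq_sum e Φ, map_sum]
          refine Finset.sum_congr rfl fun m _ => ?_
          rw [he', trace_map hB, hsmul]
          rfl
        rw [h3]
        apply Ideal.mem_map_of_mem
        rw [QFDual.mem_different_iff]
        intro w
        have := H5Disc.smul_mem_span_of_invertible Φ (Disc.Omega.trace A B) w
        rw [Submodule.mem_span_singleton] at this
        exact this
      rw [h1, map_sum, Finset.sum_mul]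
      refine Ideal.sum_mem _ fun i _ => ?_
      rw [hsmul, Algebra.smul_def, mul_assoc, mul_comm (algebraMap B B' (β i)) b']
      exact Ideal.mul_mem_left _ _ (h2 i)
  have := key v
  rwa [hv, map_one, one_mul] at this

end Main

end H5DiffBC
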