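import Groth.Prelude.Def_QFDual
import Groth.Agent.Lib.Helper5.QFDual.DiffInv
import Mathlib.LinearAlgebra.Matrix.Adjugate

set_option autoImplicit false
universe u
open TensorProduct

namespace H5DiffBC

section KerSplit
variable {A A' M N M' N' : Type u} [CommRing A] [CommRing A'] [Algebra A A']
  [AddCommGroup M] [AddCommGroup N] [AddCommGroup M'] [AddCommGroup N']
  [Module A M] [Module A N] [Module A M'] [Module A N'] [Module A' M'] [Module A' N']
  [IsScalarTower A A' M'] [IsScalarTower A A' N']

/-- base change of the kernel of a split surjection (no flatness needed) -/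
theorem mem_span_of_mem_ker_of_section (gM : M →ₗ[A] M') (hM : IsBaseChange A' gM)
    (gN : N →ₗ[A] N') (hN : IsBaseChange A' gN) (φ : M →ₗ[A] N) (φ' : M' →ₗ[A'] N')
    (hcomm : ∀ m, φ' (gM m) = gN (φ m)) (s : N →ₗ[A] M) (hs : ∀ x, φ (s x) = x)
    (m' : M') (hm' : φ' m' = 0) :
    m' ∈ Submodule.span A' (gM '' (LinearMap.ker φ : Set M)) := by
  let s' : N' →ₗ[A'] M' := hN.lift (gM ∘ₗ s)
  have hs' : ∀ x, s' (gN x) = gM (s x) := fun x => hN.lift_eq _ x
  have key : ∀ x' : M', x' - s' (φ' x') ∈
      Submodule.span A' (gM '' (LinearMap.ker φ : Set M)) := by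
    intro x'
    refine hM.inductionOn x' (fun x' => x' - s' (φ' x') ∈
      Submodule.span A' (gM '' (LinearMap.ker φ : Set M))) ?_ ?_ ?_ ?_
    · simp
    · intro m
      rw [hcomm, hs', ← map_sub]
      refine Submodule.subset_span ⟨m - s (φ m), ?_, rfl⟩
      rw [SetLike.mem_coe, LinearMap.mem_ker, map_sub, hs, sub_self]
    · intro a' y hy
      rw [map_smul, map_smul, ← smul_sub]
      exact Submodule.smul_mem _ _ hy
    · intro y z hy hz
      rw [map_add, map_add, add_sub_add_comm]
      exact Submodule.add_mem _ hy hz
  have := key m'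
  rwa [hm', map_zero, sub_zero] at this

end KerSplit

section Det

theorem det_mem_of_rows_mem_span {R : Type*} [CommRing R] {ι : Type*} [Fintype ι] [DecidableEq ι]
    (S : Set (ι → R)) (J : Ideal R)
    (hS : ∀ M : Matrix ι ι R, (∀ i, M i ∈ S) → M.det ∈ J)
    (M : Matrix ι ι R) (hM : ∀ i, M i ∈ Submodule.span R S) : M.det ∈ J := by
  have key : ∀ (t : Finset ι) (M : Matrix ι ι R), (∀ i ∈ t, M i ∈ Submodule.span R S) →
      (∀ i, i ∉ t → M i ∈ S) → M.det ∈ J := by
    intro t
    induction t using Finset.induction_on with
    | empty => intro M _ h2; exact hS M (fun i => h2 i (Finset.notMem_empty i))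
    | insert a t ha ih =>
      intro M h1 h2
      have hrow : ∀ w ∈ Submodule.span R S, (M.updateRow a w).det ∈ J := by
        intro w hw
        induction hw using Submodule.span_induction with
        | mem w hw =>
          apply ih
          · intro i hi
            have hia : i ≠ a := fun h => ha (h ▸ hi)
            rw [Matrix.updateRow_ne hia]
            exact h1 i (Finset.mem_insert_of_mem hi)
          · intro i hi
            by_cases hia : i = a
            · subst hia; rw [Matrix.updateRow_self]; exact hw
            · rw [Matrix.updateRow_ne hia]; exact h2 i (by simp [hia, hi])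
        | zero =>
          rw [Matrix.det_eq_zero_of_row_eq_zero a (by intro j; simp)]
          exact J.zero_mem
        | add x y _ _ hx hy => rw [Matrix.det_updateRow_add]; exact J.add_mem hx hy
        | smul r x _ hx => rw [Matrix.det_updateRow_smul]; exact J.mul_mem_left _ hx
      have := hrow (M a) (h1 a (Finset.mem_insert_self a t))
      rwa [Matrix.updateRow_eq_self] at this
  exact key Finset.univ M (fun i _ => hM i) (fun i hi => absurd (Finset.mem_univ i) hi)

end Det

section Adj
variable {A B : Type u} [CommRing A] [CommRing B] [Algebra A B] [Module.Finite A B]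
  [Module.Free A B] {ι : Type u} [Fintype ι] [DecidableEq ι] (e : Module.Basis ι A B)

/-- determinant trick: if `R • (e^*) ∈ (B τ)^n` then `det R` lies in the different. -/
theorem det_mem_different (R : Matrix ι ι B) (c : ι → B)
    (h : ∀ i m, ∑ j, e.repr (R i j * e m) j = Algebra.trace A B (c i * e m)) :
    R.det ∈ QFDual.different B (Disc.Omega.trace A B) := by
  have h1 : ∀ i, ∑ j, R i j • coordΩ e j = c i • Disc.Omega.trace A B := by
    intro i
    apply Disc.Omega.toLinearMap_injective
    apply e.ext
    intro m
    change toLMHom (∑ j, R i j • coordΩ e j) (e m) = _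
    rw [map_sum, LinearMap.sum_apply]
    exact h i m
  have h2 : ∀ k, R.det • coordΩ e k =
      (∑ i, R.adjugate k i * c i) • Disc.Omega.trace A B := by
    intro k
    rw [Finset.sum_smul]
    simp only [mul_smul, ← h1, Finset.smul_sum]
    rw [Finset.sum_comm]
    simp only [← mul_smul, ← Finset.sum_smul]
    have : ∀ j, ∑ i, R.adjugate k i * R i j = if k = j then R.det else 0 := by
      intro j
      have := congrFun (congrFun (Matrix.adjugate_mul R) k) j
      rw [Matrix.mul_apply] at this
      rw [this, Matrix.smul_apply, Matrix.one_apply, smul_eq_mul, mul_ite, mul_one, mul_zero]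
    simp only [this, ite_smul, zero_smul, Finset.sum_ite_eq, Finset.mem_univ, if_true]
  rw [mem_different_iff e]
  refine ⟨fun k => ∑ i, R.adjugate k i * c i, fun k m => ?_⟩
  have := congrArg (fun φ : Disc.Omega A B => φ.toLinearMap (e m)) (h2 k)
  exact this.symm

end Adj

section Main
variable (A B A' B' : Type u) [CommRing A] [CommRing B] [CommRing A'] [CommRing B']
  [Algebra A B] [Module.Finite A B] [Module.Free A B] [Algebra A A'] [Algebra B B']
  [Algebra A' B'] [Algebra A B'] [IsScalarTower A A' B'] [IsScalarTower A B B']

theorem different_le_radical_map (hB : Algebra.IsPushout A A' B B') [Module.Finite A' B']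
    [Module.Free A' B'] :
    QFDual.different B' (Disc.Omega.trace A' B') ≤
      (Ideal.map (algebraMap B B') (QFDual.different B (Disc.Omega.trace A B))).radical := by
  classical
  let ι := Module.Free.ChooseBasisIndex A B
  let e : Module.Basis ι A B := Module.Free.chooseBasis A B
  let g := IsScalarTower.toAlgHom A B B'
  have hbc : IsBaseChange A' g.toLinearMap := hB.out
  let e' : Module.Basis ι A' B' := hbc.basis e
  have he' : ∀ i, e' i = algebraMap B B' (e i) := fun i => hbc.basis_apply e i
  have hrepr : ∀ (v : B) i, e'.repr (algebraMap B B' v) i = algebraMap A A' (e.repr v i) :=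
    fun v i => hbc.basis_repr_comp_apply e v i
  intro b' hb'
  obtain ⟨c', hc'⟩ := (mem_different_iff e' b').mp hb'
  let Φ : ((ι → B) × B) →ₗ[A] (ι → A) :=
    { toFun := fun p k => ∑ j, e.repr (p.1 j * e k) j - Algebra.trace A B (p.2 * e k)
      map_add' := by
        intro p q; ext k
        simp only [Prod.fst_add, Prod.snd_add, Pi.add_apply, add_mul, map_add,
          Finsupp.coe_add, Finset.sum_add_distrib]
        ring
      map_smul' := by
        intro a p; ext k
        simp only [Prod.smul_fst, Prod.smul_snd, Pi.smul_apply, smul_mul_assoc, map_smul,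
          Finsupp.coe_smul, RingHom.id_apply, smul_eq_mul, ← Finset.mul_sum]
        ring }
  let Φ' : ((ι → B') × B') →ₗ[A'] (ι → A') :=
    { toFun := fun p k => ∑ j, e'.repr (p.1 j * e' k) j - Algebra.trace A' B' (p.2 * e' k)
      map_add' := by
        intro p q; ext k
        simp only [Prod.fst_add, Prod.snd_add, Pi.add_apply, add_mul, map_add,
          Finsupp.coe_add, Finset.sum_add_distrib]
        ring
      map_smul' := by
        intro a p; ext k
        simp only [Prod.smul_fst, Prod.smul_snd, Pi.smul_apply, smul_mul_assoc, map_smul,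
          Finsupp.coe_smul, RingHom.id_apply, smul_eq_mul, ← Finset.mul_sum]
        ring }
  let gM : ((ι → B) × B) →ₗ[A] ((ι → B') × B') :=
    (g.toLinearMap.compLeft ι).prodMap g.toLinearMap
  have hgM : IsBaseChange A' gM := IsBaseChange.prodMap _ _ (IsBaseChange.finitePow ι hbc) hbc
  let gN : (ι → A) →ₗ[A] (ι → A') := (Algebra.linearMap A A').compLeft ι
  have hgN : IsBaseChange A' gN := IsBaseChange.finitePow ι (IsBaseChange.linearMap A A')
  have hcomm : ∀ m, Φ' (gM m) = gN (Φ m) := by
    intro m
    ext k
    change ∑ j, e'.repr (algebraMap B B' (m.1 j) * e' k) j -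
      Algebra.trace A' B' (algebraMap B B' m.2 * e' k) =
      algebraMap A A' (∑ j, e.repr (m.1 j * e k) j - Algebra.trace A B (m.2 * e k))
    rw [map_sub, map_sum, he', ← map_mul, trace_map hB]
    simp only [← map_mul, hrepr]
  let s : (ι → A) →ₗ[A] ((ι → B) × B) :=
    LinearMap.prod ((Algebra.linearMap A B).compLeft ι) 0
  have hs : ∀ x, Φ (s x) = x := by
    intro x
    ext k
    change ∑ j, e.repr (algebraMap A B (x j) * e k) j - Algebra.trace A B (0 * e k) = x k
    rw [zero_mul, map_zero, sub_zero]
    simp only [← Algebra.smul_def, map_smul, Module.Basis.repr_self, Finsupp.coe_smul,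
      Pi.smul_apply, Finsupp.single_apply, smul_eq_mul, mul_ite, mul_one, mul_zero,
      Finset.sum_ite_eq, Finset.mem_univ, if_true]
  -- the set of rows
  let S : Set (ι → B') := {v | ∃ p ∈ LinearMap.ker Φ, v = fun j => algebraMap B B' (p.1 j)}
  have hfst : ∀ x ∈ Submodule.span A' (gM '' (LinearMap.ker Φ : Set ((ι → B) × B))),
      x.1 ∈ Submodule.span B' S := by
    intro x hx
    induction hx using Submodule.span_induction with
    | mem x hx =>
      obtain ⟨p, hp, rfl⟩ := hx
      exact Submodule.subset_span ⟨p, hp, rfl⟩
    | zero => exact Submodule.zero_mem _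
    | add x y _ _ hx hy => exact Submodule.add_mem _ hx hy
    | smul a x _ hx =>
      rw [Prod.smul_fst, ← algebraMap_smul B' a x.1]
      exact Submodule.smul_mem _ _ hx
  set J := Ideal.map (algebraMap B B') (QFDual.different B (Disc.Omega.trace A B)) with hJ
  have hS : ∀ M : Matrix ι ι B', (∀ i, M i ∈ S) → M.det ∈ J := by
    intro M hM
    choose p hp hMp using hM
    let R : Matrix ι ι B := fun i => (p i).1
    have hMR : M = (algebraMap B B').mapMatrix R := by
      ext i j
      rw [hMp i]
      rfl
    rw [hMR, ← RingHom.map_det]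
    apply Ideal.mem_map_of_mem
    refine det_mem_different e R (fun i => (p i).2) (fun i m => ?_)
    have := congrFun (LinearMap.mem_ker.mp (hp i)) m
    change ∑ j, e.repr ((p i).1 j * e m) j - Algebra.trace A B ((p i).2 * e m) = 0 at this
    rw [sub_eq_zero] at this
    exact this
  have hdet := det_mem_of_rows_mem_span S J hS (Matrix.diagonal fun _ : ι => b') (by
    intro i
    have hker : Φ' (Pi.single i b', c' i) = 0 := by
      ext k
      change ∑ j, e'.repr ((Pi.single i b' : ι → B') j * e' k) j -
        Algebra.trace A' B' (c' i * e' k) = 0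
      rw [hc', sub_eq_zero, Finset.sum_eq_single i]
      · rw [Pi.single_eq_same]
      · intro j _ hj
        rw [Pi.single_eq_of_ne hj, zero_mul, map_zero]
        rfl
      · intro h; exact absurd (Finset.mem_univ i) h
    have := hfst _ (mem_span_of_mem_ker_of_section gM hgM gN hgN Φ Φ' hcomm s hs _ hker)
    convert this using 1
    ext j
    simp [Matrix.diagonal, Pi.single_apply, eq_comm])
  rw [Matrix.det_diagonal, Finset.prod_const] at hdet
  exact ⟨_, hdet⟩

theorem map_different_le_and_radical_eq (hB : Algebra.IsPushout A A' B B') [Module.Finite A' B']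
    [Module.Free A' B'] :
    Ideal.map (algebraMap B B') (QFDual.different B (Disc.Omega.trace A B)) ≤
        QFDual.different B' (Disc.Omega.trace A' B') ∧
      (Ideal.map (algebraMap B B') (QFDual.different B (Disc.Omega.trace A B))).radical =
        (QFDual.different B' (Disc.Omega.trace A' B')).radical := by
  refine ⟨map_different_le A B A' B' hB, le_antisymm
    (Ideal.radical_mono (map_different_le A B A' B' hB)) ?_⟩
  rw [Ideal.radical_le_radical_iff]
  exact different_le_radical_map A B A' B' hB

end Main

end H5DiffBC
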