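import Mathlib.Algebra.Module.FinitePresentation
import Mathlib.LinearAlgebra.Dual.BaseChange
import Mathlib.RingTheory.IsTensorProduct
import Groth.Prelude.Def_QFDual

set_option autoImplicit false
universe u
open TensorProduct

namespace H5OmegaFlatBC

variable {A B' A₁ B'₁ : Type u} [CommRing A] [CommRing B'] [CommRing A₁] [CommRing B'₁]
  [Algebra A B'] [Algebra A A₁] [Algebra B' B'₁] [Algebra A₁ B'₁] [Algebra A B'₁]
  [IsScalarTower A A₁ B'₁] [IsScalarTower A B' B'₁]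

/-- Step 1: flat base change of the dual of a finitely presented module. -/
theorem isBaseChange_toDual [Module.Flat A A₁] [Module.FinitePresentation A B']
    (h : Algebra.IsPushout A A₁ B' B'₁) :
    IsBaseChange A₁ (h.out.toDual) := by
  have hbc : IsBaseChange A₁ (LinearMap.baseChangeHom A A₁ B' A) :=
    Module.FinitePresentation.isBaseChange_map A B' A A₁
  let eN : (A₁ ⊗[A] B' →ₗ[A₁] A₁ ⊗[A] A) ≃ₗ[A₁] (B'₁ →ₗ[A₁] A₁) :=
    LinearEquiv.arrowCongr h.out.equiv (AlgebraTensorModule.rid A A₁ A₁)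
  refine (IsBaseChange.iff_of_equiv_comm (LinearEquiv.refl A _) eN ?_).mp hbc
  ext φ x
  simp only [LinearMap.coe_comp, LinearEquiv.coe_coe, LinearEquiv.refl_apply, Function.comp_apply,
    LinearMap.coe_restrictScalars, LinearEquiv.restrictScalars_apply]
  rw [IsBaseChange.toDual_apply]
  rfl

end H5OmegaFlatBC

namespace H5OmegaFlatBC

variable {A B' A₁ B'₁ : Type u} [CommRing A] [CommRing B'] [CommRing A₁] [CommRing B'₁]
  [Algebra A B'] [Algebra A A₁] [Algebra B' B'₁] [Algebra A₁ B'₁] [Algebra A B'₁]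
  [IsScalarTower A A₁ B'₁] [IsScalarTower A B' B'₁]

theorem mk_smul_eq (r : A) (f : B' →ₗ[A] A) :
    (Disc.Omega.mk (r • f) : Disc.Omega A B') = algebraMap A B' r • Disc.Omega.mk f := by
  apply Disc.Omega.ext
  ext x
  simp only [Disc.Omega.smul_toLinearMap_apply, LinearMap.smul_apply]
  rw [← Algebra.smul_def, map_smul]

/-- the map `Dual A B' → B'₁ ⊗[B'] ω`, `f ↦ 1 ⊗ f` -/
noncomputable def θ₁ : (B' →ₗ[A] A) →ₗ[A] B'₁ ⊗[B'] Disc.Omega A B' where
  toFun f := (1 : B'₁) ⊗ₜ[B'] Disc.Omega.mk f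
  map_add' f g := by
    rw [← tmul_add]; rfl
  map_smul' r f := by
    rw [mk_smul_eq, RingHom.id_apply, tmul_smul, algebraMap_smul]

/-- `θ : A₁ ⊗ Dual A B' → B'₁ ⊗[B'] ω` -/
noncomputable def θ : A₁ ⊗[A] (B' →ₗ[A] A) →ₗ[A₁] B'₁ ⊗[B'] Disc.Omega A B' :=
  LinearMap.liftBaseChange A₁ (θ₁ (A := A) (B' := B') (B'₁ := B'₁))

theorem θ_tmul (a : A₁) (f : B' →ₗ[A] A) :
    θ (A := A) (B' := B') (A₁ := A₁) (B'₁ := B'₁) (a ⊗ₜ f) =
      algebraMap A₁ B'₁ a ⊗ₜ[B'] Disc.Omega.mk f := by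
  rw [θ, LinearMap.liftBaseChange_tmul]
  change a • ((1 : B'₁) ⊗ₜ[B'] Disc.Omega.mk f) = _
  rw [smul_tmul', Algebra.algebraMap_eq_smul_one]

theorem θ_surjective (h : Algebra.IsPushout A A₁ B' B'₁) :
    Function.Surjective (θ (A := A) (B' := B') (A₁ := A₁) (B'₁ := B'₁)) := by
  intro z
  induction z using TensorProduct.induction_on with
  | zero => exact ⟨0, map_zero _⟩
  | add x y hx hy =>
    obtain ⟨x', rfl⟩ := hx
    obtain ⟨y', rfl⟩ := hy
    exact ⟨x' + y', map_add _ _ _⟩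
  | tmul b w =>
    induction b using h.out.inductionOn generalizing w with
    | zero => exact ⟨0, by rw [map_zero, zero_tmul]⟩
    | tmul b' =>
      refine ⟨(1 : A₁) ⊗ₜ (b' • w).toLinearMap, ?_⟩
      rw [θ_tmul, map_one]
      change (1 : B'₁) ⊗ₜ[B'] (b' • w) = (IsScalarTower.toAlgHom A B' B'₁) b' ⊗ₜ[B'] w
      rw [tmul_smul, smul_tmul', IsScalarTower.coe_toAlgHom', Algebra.algebraMap_eq_smul_one]
    | smul a b hb =>
      obtain ⟨y, hy⟩ := hb w
      refine ⟨a • y, ?_⟩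
      rw [map_smul, hy, smul_tmul']
    | add b c hb hc =>
      obtain ⟨y, hy⟩ := hb w
      obtain ⟨y', hy'⟩ := hc w
      exact ⟨y + y', by rw [map_add, hy, hy', add_tmul]⟩

end H5OmegaFlatBC

namespace H5OmegaFlatBC

open QFDual

variable {A B' A₁ B'₁ : Type u} [CommRing A] [CommRing B'] [CommRing A₁] [CommRing B'₁]
  [Algebra A B'] [Algebra A A₁] [Algebra B' B'₁] [Algebra A₁ B'₁] [Algebra A B'₁]
  [IsScalarTower A A₁ B'₁] [IsScalarTower A B' B'₁]

/-- `B'`-module structure on `ω₁` through `B' → B'₁`. -/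
@[reducible] noncomputable def modω₁ : Module B' (Disc.Omega A₁ B'₁) :=
  Module.compHom (Disc.Omega A₁ B'₁) (algebraMap B' B'₁)

attribute [local instance] modω₁

instance : IsScalarTower B' B'₁ (Disc.Omega A₁ B'₁) :=
  ⟨fun x y z => by
    change (x • y) • z = algebraMap B' B'₁ x • (y • z)
    rw [Algebra.smul_def, mul_smul]⟩

/-- `bcFin` as a `B'`-linear map -/
noncomputable def β' (h : Algebra.IsPushout A A₁ B' B'₁) :
    Disc.Omega A B' →ₗ[B'] Disc.Omega A₁ B'₁ where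
  toFun := bcFin h
  map_add' := (bcFin h).map_add
  map_smul' b w := (bcFin h).map_smulₛₗ b w

/-- `Λ : B'₁ ⊗[B'] ω → ω₁` -/
noncomputable def Λ (h : Algebra.IsPushout A A₁ B' B'₁) :
    B'₁ ⊗[B'] Disc.Omega A B' →ₗ[B'₁] Disc.Omega A₁ B'₁ :=
  LinearMap.liftBaseChange B'₁ (β' h)

theorem Λ_tmul (h : Algebra.IsPushout A A₁ B' B'₁) (b : B'₁) (w : Disc.Omega A B') :
    Λ h (b ⊗ₜ w) = b • bcFin h w := by
  rw [Λ, LinearMap.liftBaseChange_tmul]; rfl

theorem Λ_θ [Module.Flat A A₁] [Module.FinitePresentation A B']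
    (h : Algebra.IsPushout A A₁ B' B'₁) (y : A₁ ⊗[A] (B' →ₗ[A] A)) :
    (Λ h (θ y)).toLinearMap = (isBaseChange_toDual h).equiv y := by
  induction y using TensorProduct.induction_on with
  | zero => simp
  | add x y hx hy =>
    rw [map_add, map_add, map_add, Disc.Omega.add_toLinearMap, hx, hy]
  | tmul a f =>
    rw [θ_tmul, Λ_tmul, IsBaseChange.equiv_tmul]
    ext x
    simp only [Disc.Omega.smul_toLinearMap_apply, LinearMap.smul_apply]
    rw [← Algebra.smul_def, map_smul]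
    rfl

theorem Λ_bijective [Module.Flat A A₁] [Module.FinitePresentation A B']
    (h : Algebra.IsPushout A A₁ B' B'₁) : Function.Bijective (Λ h) := by
  constructor
  · rw [injective_iff_map_eq_zero]
    intro z hz
    obtain ⟨y, rfl⟩ := θ_surjective h z
    have h1 := Λ_θ h y
    rw [hz] at h1
    have h2 : y = 0 := by
      apply (isBaseChange_toDual h).equiv.injective
      rw [← h1, map_zero]; rfl
    rw [h2, map_zero]
  · intro ψ
    refine ⟨θ ((isBaseChange_toDual h).equiv.symm ψ.toLinearMap), ?_⟩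
    apply Disc.Omega.ext
    rw [Λ_θ, LinearEquiv.apply_symm_apply]

end H5OmegaFlatBC

namespace H5OmegaFlatBC

open QFDual

variable {A B' A₁ B'₁ : Type u} [CommRing A] [CommRing B'] [CommRing A₁] [CommRing B'₁]
  [Algebra A B'] [Algebra A A₁] [Algebra B' B'₁] [Algebra A₁ B'₁] [Algebra A B'₁]
  [IsScalarTower A A₁ B'₁] [IsScalarTower A B' B'₁]

theorem omegaBC_bijective {B₁ : Type u} [CommRing B₁] [Algebra B'₁ B₁] [Algebra B' B₁]
    [IsScalarTower B' B'₁ B₁] [Module.Flat A A₁] [Module.FinitePresentation A B']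
    (h : Algebra.IsPushout A A₁ B' B'₁) : Function.Bijective (omegaBC (B₁ := B₁) h) := by
  let ΛE : (B'₁ ⊗[B'] Disc.Omega A B') ≃ₗ[B'₁] Disc.Omega A₁ B'₁ :=
    LinearEquiv.ofBijective (Λ h) (Λ_bijective h)
  let e1 := TensorProduct.AlgebraTensorModule.cancelBaseChange B' B'₁ B₁ B₁ (Disc.Omega A B')
  let e2 : B₁ ⊗[B'₁] (B'₁ ⊗[B'] Disc.Omega A B') ≃ₗ[B₁] B₁ ⊗[B'₁] Disc.Omega A₁ B'₁ :=
    TensorProduct.AlgebraTensorModule.congr (LinearEquiv.refl B₁ B₁) ΛE
  have heq : omegaBC (B₁ := B₁) h = (e1.symm.trans e2).toLinearMap := by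
    apply TensorProduct.AlgebraTensorModule.ext
    intro b₁ w
    rw [omegaBC_tmul]
    simp only [LinearEquiv.coe_coe, LinearEquiv.trans_apply, e1, e2,
      TensorProduct.AlgebraTensorModule.cancelBaseChange_symm_tmul,
      TensorProduct.AlgebraTensorModule.congr_tmul, LinearEquiv.refl_apply, ΛE,
      LinearEquiv.ofBijective_apply, Λ_tmul, one_smul]
  rw [heq]
  exact (e1.symm.trans e2).bijective

end H5OmegaFlatBC
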