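import Groth.Prelude.Def_QFDual

set_option autoImplicit false
universe u
open QFDual
open TensorProduct

namespace H5OmegaProd

section Aux
variable {A B' B C' C : Type u} [CommRing A] [CommRing B'] [CommRing B] [CommRing C'] [CommRing C]
  [Algebra A B'] [Algebra B' B] [Algebra A B] [IsScalarTower A B' B] [Algebra A C'] [Algebra C' C]
  [Algebra A C] [IsScalarTower A C' C]

/-- restriction to the first factor -/
def resL : Disc.Omega A (B' × C') →+ Disc.Omega A B' where
  toFun φ := ⟨φ.toLinearMap ∘ₗ LinearMap.inl A B' C'⟩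
  map_zero' := by apply Disc.Omega.ext; rfl
  map_add' φ ψ := by apply Disc.Omega.ext; rfl

def resR : Disc.Omega A (B' × C') →+ Disc.Omega A C' where
  toFun φ := ⟨φ.toLinearMap ∘ₗ LinearMap.inr A B' C'⟩
  map_zero' := by apply Disc.Omega.ext; rfl
  map_add' φ ψ := by apply Disc.Omega.ext; rfl

def extL : Disc.Omega A B' →+ Disc.Omega A (B' × C') where
  toFun ψ := ⟨ψ.toLinearMap ∘ₗ LinearMap.fst A B' C'⟩
  map_zero' := by apply Disc.Omega.ext; rfl
  map_add' φ ψ := by apply Disc.Omega.ext; rfl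

def extR : Disc.Omega A C' →+ Disc.Omega A (B' × C') where
  toFun ψ := ⟨ψ.toLinearMap ∘ₗ LinearMap.snd A B' C'⟩
  map_zero' := by apply Disc.Omega.ext; rfl
  map_add' φ ψ := by apply Disc.Omega.ext; rfl

theorem resL_smul (r : B' × C') (φ : Disc.Omega A (B' × C')) :
    resL (r • φ) = r.1 • resL φ := by
  apply Disc.Omega.ext
  ext x
  obtain ⟨r1, r2⟩ := r
  simp [resL]

theorem resR_smul (r : B' × C') (φ : Disc.Omega A (B' × C')) :
    resR (r • φ) = r.2 • resR φ := by
  apply Disc.Omega.ext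
  ext x
  obtain ⟨r1, r2⟩ := r
  simp [resR]

theorem extL_smul (s : B') (c' : C') (ψ : Disc.Omega A B') :
    (extL (s • ψ) : Disc.Omega A (B' × C')) = (s, c') • extL ψ := by
  apply Disc.Omega.ext
  ext x <;> simp [extL]

theorem extR_smul (b' : B') (s : C') (ψ : Disc.Omega A C') :
    (extR (s • ψ) : Disc.Omega A (B' × C')) = (b', s) • extR ψ := by
  apply Disc.Omega.ext
  ext x <;> simp [extR]

theorem resL_extL (ψ : Disc.Omega A B') : resL (extL (C' := C') ψ) = ψ := by
  apply Disc.Omega.ext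
  ext x
  simp [resL, extL]

theorem resR_extR (ψ : Disc.Omega A C') : resR (extR (B' := B') ψ) = ψ := by
  apply Disc.Omega.ext
  ext x
  simp [resR, extR]

theorem resR_extL (ψ : Disc.Omega A B') : resR (extL (C' := C') ψ) = 0 := by
  apply Disc.Omega.ext
  ext x
  simp [resR, extL]

theorem resL_extR (ψ : Disc.Omega A C') : resL (extR (B' := B') ψ) = 0 := by
  apply Disc.Omega.ext
  ext x
  simp [resL, extR]

theorem extL_resL (φ : Disc.Omega A (B' × C')) : extL (resL φ) = ((1, 0) : B' × C') • φ := by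
  apply Disc.Omega.ext
  ext x <;> simp [resL, extL]

theorem extR_resR (φ : Disc.Omega A (B' × C')) : extR (resR φ) = ((0, 1) : B' × C') • φ := by
  apply Disc.Omega.ext
  ext x <;> simp [resR, extR]

end Aux

theorem omega_prod (A B' B C' C : Type u) [CommRing A] [CommRing B'] [CommRing B] [CommRing C'] [CommRing C] [IsNoetherianRing A] [IsNoetherianRing B] [IsNoetherianRing C] [Algebra A B'] [Algebra B' B] [Algebra A B] [IsScalarTower A B' B] [Algebra A C'] [Algebra C' C] [Algebra A C] [IsScalarTower A C' C] (hB : QFDual.IsQFFactor A B' B) (hC : QFDual.IsQFFactor A C' C) [Algebra (B' × C') (B × C)] [IsScalarTower A (B' × C') (B × C)] (halg : algebraMap (B' × C') (B × C) = (algebraMap B' B).prodMap (algebraMap C' C)) : ∃ e : QFDual.omega A (B' × C') (B × C) ≃ₗ[A] QFDual.omega A B' B × QFDual.omega A C' C, ∀ (b : B) (c : C) (φ : Disc.Omega A (B' × C')), e ((b, c) ⊗ₜ[B' × C'] φ) = (b ⊗ₜ[B'] Disc.Omega.mk (φ.toLinearMap ∘ₗ LinearMap.inl A B' C'), c ⊗ₜ[C'] Disc.Omega.mk (φ.toLinearMap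 ∘ₗ LinearMap.inr A B' C')) := by
  have hsm : ∀ (r : B' × C') (p : B × C), r • p = (r.1 • p.1, r.2 • p.2) := by
    intro r p
    rw [Algebra.smul_def, halg]
    ext <;> simp [Algebra.smul_def]
  -- forward map
  let f : (B × C) →+ Disc.Omega A (B' × C') →+ QFDual.omega A B' B × QFDual.omega A C' C :=
    { toFun := fun p =>
        { toFun := fun φ => (p.1 ⊗ₜ[B'] resL φ, p.2 ⊗ₜ[C'] resR φ)
          map_zero' := by simp
          map_add' := fun φ ψ => by simp [tmul_add] }
      map_zero' := by ext φ <;> simp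
      map_add' := fun p q => by ext φ <;> simp [add_tmul] }
  have hf : ∀ (r : B' × C') (p : B × C) (φ : Disc.Omega A (B' × C')),
      f (r • p) φ = f p (r • φ) := by
    intro r p φ
    change ((r • p).1 ⊗ₜ[B'] resL φ, (r • p).2 ⊗ₜ[C'] resR φ) =
      (p.1 ⊗ₜ[B'] resL (r • φ), p.2 ⊗ₜ[C'] resR (r • φ))
    rw [hsm, resL_smul, resR_smul, TensorProduct.smul_tmul, TensorProduct.smul_tmul]
  let F : QFDual.omega A (B' × C') (B × C) →+ QFDual.omega A B' B × QFDual.omega A C' C :=
    TensorProduct.liftAddHom f hf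
  have hF : ∀ (p : B × C) φ, F (p ⊗ₜ[B' × C'] φ) = (p.1 ⊗ₜ[B'] resL φ, p.2 ⊗ₜ[C'] resR φ) :=
    fun p φ => rfl
  -- backward maps
  let g1 : B →+ Disc.Omega A B' →+ QFDual.omega A (B' × C') (B × C) :=
    { toFun := fun b =>
        { toFun := fun ψ => ((b, 0) : B × C) ⊗ₜ[B' × C'] extL ψ
          map_zero' := by simp
          map_add' := fun φ ψ => by simp [tmul_add] }
      map_zero' := by
        ext ψ
        change ((0, 0) : B × C) ⊗ₜ[B' × C'] extL ψ = 0
        rw [← Prod.zero_eq_mk, zero_tmul]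
      map_add' := fun b b' => by
        ext ψ
        change ((b + b', 0) : B × C) ⊗ₜ[B' × C'] extL ψ = (b, 0) ⊗ₜ extL ψ + (b', 0) ⊗ₜ extL ψ
        rw [← add_tmul]
        simp }
  have hg1 : ∀ (s : B') (b : B) (ψ : Disc.Omega A B'), g1 (s • b) ψ = g1 b (s • ψ) := by
    intro s b ψ
    change ((s • b, 0) : B × C) ⊗ₜ[B' × C'] extL ψ = ((b, 0) : B × C) ⊗ₜ[B' × C'] extL (s • ψ)
    rw [extL_smul s 0 ψ, ← TensorProduct.smul_tmul, hsm]
    simp
  let g2 : C →+ Disc.Omega A C' →+ QFDual.omega A (B' × C') (B × C) :=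
    { toFun := fun c =>
        { toFun := fun ψ => ((0, c) : B × C) ⊗ₜ[B' × C'] extR ψ
          map_zero' := by simp
          map_add' := fun φ ψ => by simp [tmul_add] }
      map_zero' := by
        ext ψ
        change ((0, 0) : B × C) ⊗ₜ[B' × C'] extR ψ = 0
        rw [← Prod.zero_eq_mk, zero_tmul]
      map_add' := fun c c' => by
        ext ψ
        change ((0, c + c') : B × C) ⊗ₜ[B' × C'] extR ψ = (0, c) ⊗ₜ extR ψ + (0, c') ⊗ₜ extR ψ
        rw [← add_tmul]
        simp }
  have hg2 : ∀ (s : C') (c : C) (ψ : Disc.Omega A C'), g2 (s • c) ψ = g2 c (s • ψ) := by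
    intro s c ψ
    change ((0, s • c) : B × C) ⊗ₜ[B' × C'] extR ψ = ((0, c) : B × C) ⊗ₜ[B' × C'] extR (s • ψ)
    rw [extR_smul 0 s ψ, ← TensorProduct.smul_tmul, hsm]
    simp
  let G1 : QFDual.omega A B' B →+ QFDual.omega A (B' × C') (B × C) :=
    TensorProduct.liftAddHom g1 hg1
  let G2 : QFDual.omega A C' C →+ QFDual.omega A (B' × C') (B × C) :=
    TensorProduct.liftAddHom g2 hg2
  have hG1 : ∀ b ψ, G1 (b ⊗ₜ[B'] ψ) = ((b, 0) : B × C) ⊗ₜ[B' × C'] extL ψ := fun b ψ => rfl
  have hG2 : ∀ c ψ, G2 (c ⊗ₜ[C'] ψ) = ((0, c) : B × C) ⊗ₜ[B' × C'] extR ψ := fun c ψ => rfl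
  have hFG1 : ∀ t, F (G1 t) = (t, 0) := by
    intro t
    induction t using TensorProduct.induction_on with
    | zero => simp; rfl
    | add x y hx hy => rw [map_add, map_add, hx, hy]; simp
    | tmul b ψ => rw [hG1, hF]; simp [resL_extL, resR_extL]
  have hFG2 : ∀ t, F (G2 t) = (0, t) := by
    intro t
    induction t using TensorProduct.induction_on with
    | zero => simp; rfl
    | add x y hx hy => rw [map_add, map_add, hx, hy]; simp
    | tmul c ψ => rw [hG2, hF]; simp [resR_extR, resL_extR]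
  have hGF : ∀ t, G1 (F t).1 + G2 (F t).2 = t := by
    intro t
    induction t using TensorProduct.induction_on with
    | zero => simp
    | add x y hx hy =>
      rw [map_add, Prod.fst_add, Prod.snd_add, map_add, map_add, add_add_add_comm, hx, hy]
    | tmul p φ =>
      rw [hF]
      change G1 (p.1 ⊗ₜ[B'] resL φ) + G2 (p.2 ⊗ₜ[C'] resR φ) = _
      rw [hG1, hG2, extL_resL, extR_resR, ← TensorProduct.smul_tmul, ← TensorProduct.smul_tmul,
        hsm, hsm, ← add_tmul]
      simp
  let e0 : QFDual.omega A (B' × C') (B × C) ≃+ QFDual.omega A B' B × QFDual.omega A C' C :=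
    { toFun := F
      invFun := fun q => G1 q.1 + G2 q.2
      left_inv := hGF
      right_inv := by
        rintro ⟨t1, t2⟩
        change F (G1 t1 + G2 t2) = (t1, t2)
        rw [map_add, hFG1, hFG2]
        simp
      map_add' := F.map_add }
  have hlin : ∀ (a : A) (t : QFDual.omega A (B' × C') (B × C)), F (a • t) = a • F t := by
    intro a t
    induction t using TensorProduct.induction_on with
    | zero => simp
    | add x y hx hy => rw [smul_add, map_add, hx, hy, map_add, smul_add]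
    | tmul p φ =>
      rw [TensorProduct.smul_tmul', hF, hF]
      rfl
  refine ⟨{ e0 with map_smul' := hlin }, ?_⟩
  intro b c φ
  rfl

end H5OmegaProd
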