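import Groth.Prelude.Def_QFDual
import Groth.Prelude.Def_EGA4b
import Mathlib.RingTheory.Trace.Basic
import Mathlib.LinearAlgebra.Eigenspace.Charpoly
import Mathlib.LinearAlgebra.Eigenspace.Minpoly
import Mathlib.FieldTheory.IsAlgClosed.AlgebraicClosure
import Mathlib.RingTheory.Localization.AtPrime.Basic
import Mathlib.RingTheory.IntegralClosure.IntegrallyClosed
import Mathlib.LinearAlgebra.TensorProduct.Tower
import Mathlib.RingTheory.Localization.FractionRing

set_option autoImplicit false
universe u
open QFDual TensorProduct Polynomial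

namespace H5QFDual

theorem isIntegral_trace_of_aeval_eq_zero {R F V : Type*} [CommRing R] [Field F] [Algebra R F]
    [AddCommGroup V] [Module F V] [FiniteDimensional F V] (g : Module.End F V) (P : R[X])
    (hP : P.Monic) (h : aeval g (P.map (algebraMap R F)) = 0) :
    IsIntegral R (LinearMap.trace F V g) := by
  let Fb := AlgebraicClosure F
  let g' : Module.End Fb (Fb ⊗[F] V) := g.baseChange Fb
  have htr : LinearMap.trace Fb _ g' = algebraMap F Fb (LinearMap.trace F V g) :=
    LinearMap.trace_baseChange g Fb
  rw [← isIntegral_algebraMap_iff (algebraMap F Fb).injective, ← htr]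
  have hsplit : g'.charpoly.Splits := IsAlgClosed.splits _
  rw [Module.End.trace_eq_sum_roots_charpoly_of_splits hsplit]
  apply IsIntegral.multiset_sum
  intro μ hμ
  have hroot : g'.charpoly.IsRoot μ := Polynomial.isRoot_of_mem_roots hμ
  have heig : g'.HasEigenvalue μ := (Module.End.hasEigenvalue_iff_isRoot_charpoly g' μ).mpr hroot
  obtain ⟨v, hv⟩ := heig.exists_hasEigenvector
  have hzero : aeval g' (P.map (algebraMap R Fb)) = 0 := by
    have h1 : aeval (Module.End.baseChangeHom F Fb V g) (P.map (algebraMap R F)) = 0 := by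
      rw [Polynomial.aeval_algHom_apply, h, map_zero]
    rw [IsScalarTower.algebraMap_eq R F Fb, ← Polynomial.map_map, aeval_map_algebraMap]
    exact h1
  have h2 := Module.End.aeval_apply_of_hasEigenvector (p := P.map (algebraMap R Fb)) hv
  rw [hzero] at h2
  have hev : (P.map (algebraMap R Fb)).eval μ = 0 := by
    by_contra hne
    exact hv.2 ((smul_eq_zero.mp h2.symm).resolve_left hne)
  exact ⟨P, hP, by rwa [Polynomial.eval_map] at hev⟩

theorem mem_range_of_forall_maximal {A K : Type*} [CommRing A] [CommRing K] [Algebra A K] (t : K)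
    (h : ∀ m : Ideal A, m.IsMaximal → ∃ u : A, u ∉ m ∧ ∃ a : A, u • t = algebraMap A K a) :
    t ∈ (algebraMap A K).range := by
  let I : Ideal A :=
    { carrier := {u | ∃ a, u • t = algebraMap A K a}
      add_mem' := by
        rintro u v ⟨a, ha⟩ ⟨b, hb⟩
        exact ⟨a + b, by rw [add_smul, ha, hb, map_add]⟩
      zero_mem' := ⟨0, by simp⟩
      smul_mem' := by
        rintro c u ⟨a, ha⟩
        exact ⟨c * a, by rw [smul_eq_mul, mul_smul, ha, map_mul, Algebra.smul_def]⟩ }
  by_cases hI : I = ⊤
  · have h1 : (1 : A) ∈ I := hI ▸ Submodule.mem_top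
    obtain ⟨a, ha⟩ := h1
    exact ⟨a, by rw [← ha, one_smul]⟩
  · obtain ⟨m, hm, hIm⟩ := Ideal.exists_le_maximal I hI
    obtain ⟨u, hu, a, ha⟩ := h m hm
    exact absurd (hIm ⟨a, ha⟩) hu

theorem exists_smul_eq_zero_of_map_eq_zero {A K : Type*} [CommRing A] [CommRing K] [Algebra A K]
    [IsFractionRing A K] (m : Ideal A) [m.IsPrime] [IsDomain (Localization.AtPrime m)]
    {F : Type*} [Field F] [Algebra (Localization.AtPrime m) F]
    [IsFractionRing (Localization.AtPrime m) F] [Algebra A F]
    [IsScalarTower A (Localization.AtPrime m) F] [Algebra K F] [IsScalarTower A K F] (x : K)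
    (hx : algebraMap K F x = 0) : ∃ u : A, u ∉ m ∧ u • x = 0 := by
  obtain ⟨⟨a, s⟩, has⟩ := IsLocalization.surj (nonZeroDivisors A) x
  simp only at has
  have h1 : algebraMap A F a = 0 := by
    rw [IsScalarTower.algebraMap_apply A K F, ← has, map_mul, hx, zero_mul]
  rw [IsScalarTower.algebraMap_apply A (Localization.AtPrime m) F] at h1
  have h2 : algebraMap A (Localization.AtPrime m) a = 0 :=
    (IsFractionRing.injective (Localization.AtPrime m) F) (by rw [h1, map_zero])
  obtain ⟨u, hu⟩ := (IsLocalization.map_eq_zero_iff m.primeCompl (Localization.AtPrime m) a).mp h2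
  refine ⟨u, u.2, ?_⟩
  have hunit : IsUnit (algebraMap A K s) := IsLocalization.map_units K s
  have h3 : (u : A) • x * algebraMap A K s = 0 := by
    rw [smul_mul_assoc, has, Algebra.smul_def, ← map_mul, hu, map_zero]
  exact (hunit.mul_left_eq_zero).mp h3

theorem one_mem_complementary_of_isNormalRing (A K B L : Type u) [CommRing A] [CommRing K]
    [CommRing B] [CommRing L] [Algebra A K] [Algebra A B] [Algebra B L] [Algebra K L] [Algebra A L]
    [IsScalarTower A K L] [IsScalarTower A B L] (h : QFDual.IsDedekindDefined A K B L)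
    (hA : EGA4.IsNormalRing A) : (1 : L) ∈ QFDual.complementary A K B L := by
  intro b
  haveI := h.isNoetherianRing
  haveI := h.finite
  haveI := h.free
  haveI := h.finiteKL
  haveI := h.isFractionRing
  rw [one_mul]
  apply mem_range_of_forall_maximal
  intro m hm
  haveI := hm.isPrime
  obtain ⟨hdom, hic⟩ := hA m
  let Am := Localization.AtPrime m
  let F := FractionRing Am
  have hunits : ∀ s : nonZeroDivisors A, IsUnit (algebraMap A F s) := by
    intro s
    rw [isUnit_iff_ne_zero, IsScalarTower.algebraMap_apply A Am F]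
    intro h0
    have h2 : algebraMap A Am s = 0 := (IsFractionRing.injective Am F) (by rw [h0, map_zero])
    obtain ⟨u, hu⟩ := (IsLocalization.map_eq_zero_iff m.primeCompl Am (s : A)).mp h2
    have hu0 : (u : A) = 0 := (mem_nonZeroDivisors_iff.mp s.2).2 _ hu
    exact u.2 (hu0 ▸ m.zero_mem)
  let ι : K →+* F := IsLocalization.lift hunits
  letI : Algebra K F := ι.toAlgebra
  haveI : IsScalarTower A K F :=
    IsScalarTower.of_algebraMap_eq (fun a => (IsLocalization.lift_eq hunits a).symm)
  obtain ⟨P, hP, hPb⟩ := Algebra.IsIntegral.isIntegral (R := A) b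
  set x : L := algebraMap B L b with hxdef
  let f : Module.End K L := Algebra.lmul K L x
  have hf : aeval f (P.map (algebraMap A K)) = 0 := by
    show aeval (Algebra.lmul K L x) (P.map (algebraMap A K)) = 0
    rw [Polynomial.aeval_algHom_apply, aeval_map_algebraMap, hxdef,
      Polynomial.aeval_algebraMap_apply, Polynomial.aeval_def, hPb, map_zero, map_zero]
  let g : Module.End F (F ⊗[K] L) := f.baseChange F
  have hg : aeval g (P.map (algebraMap A F)) = 0 := by
    have h1 : aeval (Module.End.baseChangeHom K F L f) (P.map (algebraMap A K)) = 0 := by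
      rw [Polynomial.aeval_algHom_apply, hf, map_zero]
    rw [IsScalarTower.algebraMap_eq A K F, ← Polynomial.map_map, aeval_map_algebraMap]
    exact h1
  have hint : IsIntegral A (LinearMap.trace F _ g) := isIntegral_trace_of_aeval_eq_zero g P hP hg
  have htr : LinearMap.trace F _ g = algebraMap K F (Algebra.trace K L x) := by
    rw [Algebra.trace_apply]
    exact LinearMap.trace_baseChange f F
  rw [htr] at hint
  have hint' : IsIntegral Am (algebraMap K F (Algebra.trace K L x)) := hint.tower_top
  obtain ⟨y, hy⟩ := IsIntegrallyClosed.isIntegral_iff.mp hint'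
  obtain ⟨⟨a, u⟩, hau⟩ := IsLocalization.surj m.primeCompl y
  simp only at hau
  have hz : algebraMap K F ((u : A) • Algebra.trace K L x - algebraMap A K a) = 0 := by
    rw [map_sub, Algebra.smul_def, map_mul, ← IsScalarTower.algebraMap_apply A K F,
      ← IsScalarTower.algebraMap_apply A K F, ← hy, IsScalarTower.algebraMap_apply A Am F,
      IsScalarTower.algebraMap_apply A Am F a, ← map_mul, ← map_sub, mul_comm, hau, sub_self, map_zero]
  obtain ⟨u', hu', hzero⟩ := exists_smul_eq_zero_of_map_eq_zero m _ hz
  refine ⟨u' * u, ?_, u' * a, ?_⟩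
  · exact fun hmem => (Ideal.IsPrime.mem_or_mem inferInstance hmem).elim hu' u.2
  · rw [smul_sub, sub_eq_zero] at hzero
    rw [mul_smul, hzero, Algebra.smul_def, map_mul]

end H5QFDual
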